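import Cfsg.Agent.H0.VFi223.D
set_option maxRecDepth 100000
set_option Elab.async false
namespace H0.VFi223
open H0 BN 
theorem c0 : pairsW R 0 3 ((E.drop 0).take 12) = true := by decide +kernel
theorem c1 : pairsW R 3 3 ((E.drop 0).take 12) = true := by decide +kernel
theorem c2 : pairsW R 6 3 ((E.drop 0).take 12) = true := by decide +kernel
theorem c3 : pairsW R 9 3 ((E.drop 0).take 12) = true := by decide +kernel
theorem c4 : pairsW R 12 3 ((E.drop 0).take 12) = true := by decide +kernel
theorem c5 : pairsW R 15 3 ((E.drop 0).take 12) = true := by decide +kernel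
theorem c6 : pairsW R 0 3 ((E.drop 12).take 9) = true := by decide +kernel
theorem c7 : pairsW R 3 3 ((E.drop 12).take 9) = true := by decide +kernel
theorem c8 : pairsW R 6 3 ((E.drop 12).take 9) = true := by decide +kernel
theorem c9 : pairsW R 9 3 ((E.drop 12).take 9) = true := by decide +kernel
theorem c10 : pairsW R 12 3 ((E.drop 12).take 9) = true := by decide +kernel
theorem c11 : pairsW R 15 3 ((E.drop 12).take 9) = true := by decide +kernel
theorem c12 : pairsW R 0 3 ((E.drop 21).take 9) = true := by decide +kernel
theorem c13 : pairsW R 3 3 ((E.drop 21).take 9) = true := by decide +kernel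
theorem c14 : pairsW R 6 3 ((E.drop 21).take 9) = true := by decide +kernel
theorem c15 : pairsW R 9 3 ((E.drop 21).take 9) = true := by decide +kernel
theorem c16 : pairsW R 12 3 ((E.drop 21).take 9) = true := by decide +kernel
theorem c17 : pairsW R 15 3 ((E.drop 21).take 9) = true := by decide +kernel
theorem c18 : pairsW R 0 3 ((E.drop 30).take 8) = true := by decide +kernel
theorem c19 : pairsW R 3 3 ((E.drop 30).take 8) = true := by decide +kernel
theorem c20 : pairsW R 6 3 ((E.drop 30).take 8) = true := by decide +kernel
theorem c21 : pairsW R 9 3 ((E.drop 30).take 8) = true := by decide +kernel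
theorem c22 : pairsW R 12 3 ((E.drop 30).take 8) = true := by decide +kernel
theorem c23 : pairsW R 15 3 ((E.drop 30).take 8) = true := by decide +kernel
theorem c24 : pairsW R 0 3 ((E.drop 38).take 7) = true := by decide +kernel
theorem c25 : pairsW R 3 3 ((E.drop 38).take 7) = true := by decide +kernel
theorem c26 : pairsW R 6 3 ((E.drop 38).take 7) = true := by decide +kernel
theorem c27 : pairsW R 9 3 ((E.drop 38).take 7) = true := by decide +kernel
theorem c28 : pairsW R 12 3 ((E.drop 38).take 7) = true := by decide +kernel
theorem c29 : pairsW R 15 3 ((E.drop 38).take 7) = true := by decide +kernel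
theorem c30 : pairsW R 0 1 ((E.drop 45).take 1) = true := by decide +kernel
theorem c31 : pairsW R 1 1 ((E.drop 45).take 1) = true := by decide +kernel
theorem c32 : pairsW R 2 1 ((E.drop 45).take 1) = true := by decide +kernel
theorem c33 : pairsW R 3 1 ((E.drop 45).take 1) = true := by decide +kernel
theorem c34 : pairsW R 4 1 ((E.drop 45).take 1) = true := by decide +kernel
theorem c35 : pairsW R 5 1 ((E.drop 45).take 1) = true := by decide +kernel
theorem c36 : pairsW R 6 1 ((E.drop 45).take 1) = true := by decide +kernel
theorem c37 : pairsW R 7 1 ((E.drop 45).take 1) = true := by decide +kernel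
theorem c38 : pairsW R 8 1 ((E.drop 45).take 1) = true := by decide +kernel
theorem c39 : pairsW R 9 1 ((E.drop 45).take 1) = true := by decide +kernel
theorem c40 : pairsW R 10 1 ((E.drop 45).take 1) = true := by decide +kernel
theorem c41 : pairsW R 11 1 ((E.drop 45).take 1) = true := by decide +kernel
theorem c42 : pairsW R 12 1 ((E.drop 45).take 1) = true := by decide +kernel
theorem c43 : pairsW R 13 1 ((E.drop 45).take 1) = true := by decide +kernel
theorem c44 : pairsW R 14 1 ((E.drop 45).take 1) = true := by decide +kernel
theorem c45 : pairsW R 15 1 ((E.drop 45).take 1) = true := by decide +kernel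
theorem c46 : pairsW R 16 1 ((E.drop 45).take 1) = true := by decide +kernel
theorem c47 : pairsW R 17 1 ((E.drop 45).take 1) = true := by decide +kernel
theorem c48 : pairsW R 0 2 ((E.drop 46).take 1) = true := by decide +kernel
theorem c49 : pairsW R 2 2 ((E.drop 46).take 1) = true := by decide +kernel
theorem c50 : pairsW R 4 2 ((E.drop 46).take 1) = true := by decide +kernel
theorem c51 : pairsW R 6 2 ((E.drop 46).take 1) = true := by decide +kernel
theorem c52 : pairsW R 8 2 ((E.drop 46).take 1) = true := by decide +kernel
theorem c53 : pairsW R 10 2 ((E.drop 46).take 1) = true := by decide +kernel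
theorem c54 : pairsW R 12 2 ((E.drop 46).take 1) = true := by decide +kernel
theorem c55 : pairsW R 14 2 ((E.drop 46).take 1) = true := by decide +kernel
theorem c56 : pairsW R 16 2 ((E.drop 46).take 1) = true := by decide +kernel
theorem c57 : pairsW R 0 2 ((E.drop 47).take 1) = true := by decide +kernel
theorem c58 : pairsW R 2 2 ((E.drop 47).take 1) = true := by decide +kernel
theorem c59 : pairsW R 4 2 ((E.drop 47).take 1) = true := by decide +kernel
theorem c60 : pairsW R 6 2 ((E.drop 47).take 1) = true := by decide +kernel
theorem c61 : pairsW R 8 2 ((E.drop 47).take 1) = true := by decide +kernel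
theorem c62 : pairsW R 10 2 ((E.drop 47).take 1) = true := by decide +kernel
theorem c63 : pairsW R 12 2 ((E.drop 47).take 1) = true := by decide +kernel
theorem c64 : pairsW R 14 2 ((E.drop 47).take 1) = true := by decide +kernel
theorem c65 : pairsW R 16 2 ((E.drop 47).take 1) = true := by decide +kernel
theorem c66 : pairsW R 0 3 ((E.drop 48).take 9) = true := by decide +kernel
theorem c67 : pairsW R 3 3 ((E.drop 48).take 9) = true := by decide +kernel
theorem c68 : pairsW R 6 3 ((E.drop 48).take 9) = true := by decide +kernel
theorem c69 : pairsW R 9 3 ((E.drop 48).take 9) = true := by decide +kernel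
theorem c70 : pairsW R 12 3 ((E.drop 48).take 9) = true := by decide +kernel
theorem c71 : pairsW R 15 3 ((E.drop 48).take 9) = true := by decide +kernel
theorem c72 : eqW R 0 3 [9, 9, 9] [] = true := by decide +kernel
theorem c73 : eqW R 3 3 [9, 9, 9] [] = true := by decide +kernel
theorem c74 : eqW R 6 3 [9, 9, 9] [] = true := by decide +kernel
theorem c75 : eqW R 9 3 [9, 9, 9] [] = true := by decide +kernel
theorem c76 : eqW R 12 3 [9, 9, 9] [] = true := by decide +kernel
theorem c77 : eqW R 15 3 [9, 9, 9] [] = true := by decide +kernel
theorem c78 : mapsP R [9] [0] [2] = true := by decide +kernel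
end H0.VFi223
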